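import Mathlib
import Cfsg.Agent.Lib.Sporadic.Co3Out.Vecs
import Cfsg.Agent.Lib.Sporadic.Co3Out.Data

/-! The kernel checks of the action of the generators. -/

set_option autoImplicit false
set_option maxRecDepth 100000

namespace Cfsg.Agent.Lib.Sporadic.Co3Out.Gens

open Cfsg Cfsg.Agent.Lib.Compute.PermCert Cfsg.Agent.Lib.Sporadic.LeechKey Cfsg.Agent.Lib.Sporadic.LeechMcLData
  Cfsg.Agent.Lib.Sporadic.LeechA0 Cfsg.Agent.Lib.Sporadic.LeechMin
  Cfsg.Agent.Lib.Sporadic.Co3Out.Vecs Cfsg.Agent.Lib.Sporadic.Co3Out.Data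

theorem gen0_ok : (List.range 552).all (fun i => (permL iA0) (XX.getD i []) == XX.getD (get 10 1023 eG0.f i) []) = true := by
  decide +kernel
theorem gen1_ok : (List.range 552).all (fun i => (permL iA1) (XX.getD i []) == XX.getD (get 10 1023 eG1.f i) []) = true := by
  decide +kernel
theorem gen2_ok : (List.range 552).all (fun i => (permL iA2) (XX.getD i []) == XX.getD (get 10 1023 eG2.f i) []) = true := by
  decide +kernel
theorem gen3_ok : (List.range 552).all (fun i => (matL Mg 4) (XX.getD i []) == XX.getD (get 10 1023 eG3.f i) []) = true := by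
  decide +kernel
theorem gen4_ok : (List.range 552).all (fun i => (permL iT) (XX.getD i []) == XX.getD (get 10 1023 eG4.f i) []) = true := by
  decide +kernel

end Cfsg.Agent.Lib.Sporadic.Co3Out.Gens
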