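import Mathlib
import Cfsg.Agent.Lib.Sporadic.Co3Out.Gens
import Cfsg.Agent.Lib.Sporadic.Co3Out.Check

/-! The outer automorphism group of the group Co3. -/

set_option autoImplicit false
set_option maxRecDepth 100000

namespace Cfsg.Agent.Lib.Sporadic.Co3Out.Main

open Cfsg Cfsg.Agent.Lib.Compute.PermCert Cfsg.Agent.Lib.Compute.OutChain Cfsg.Agent.Lib.Compute.OutFinal
  Cfsg.Agent.Lib.Compute.OutFinal4 Cfsg.Agent.Lib.Compute.OutFinal2 Cfsg.Agent.Lib.Compute.PermOut
  Cfsg.Agent.Lib.Sporadic.GolayCore Cfsg.Agent.Lib.Sporadic.LeechBasic Cfsg.Agent.Lib.Sporadic.LeechAut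
  Cfsg.Agent.Lib.Sporadic.LeechMat Cfsg.Agent.Lib.Sporadic.LeechKey Cfsg.Agent.Lib.Sporadic.LeechEnum
  Cfsg.Agent.Lib.Sporadic.LeechA0 Cfsg.Agent.Lib.Sporadic.LeechMcLData Cfsg.Agent.Lib.Sporadic.LeechMcL
  Cfsg.Agent.Lib.Sporadic.LeechMin
  Cfsg.Agent.Lib.Sporadic.LeechRep Cfsg.Agent.Lib.Sporadic.LeechGroups Cfsg.Agent.Lib.Sporadic.LeechRep2
  Cfsg.Agent.Lib.Sporadic.Co3Out.Vecs Cfsg.Agent.Lib.Sporadic.Co3Out.Data Cfsg.Agent.Lib.Sporadic.Co3Out.Check
  Cfsg.Agent.Lib.Sporadic.Co3Out.Gens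

theorem hl24 : ∀ l ∈ XX, l.length = 24 := by
  intro l hl
  simpa using List.all_eq_true.1 XX_l24 l hl

theorem hnd : XX.Nodup := nodup_of_sorted XX_sorted

theorem hmem : ∀ l ∈ XX, vecOf l ∈ leechLattice := by
  refine mem_of_tree (fun f hf => ?_) XX_tree (inLattice_sound XX_root)
  have hf' : f ∈ gensX := hf
  simp only [gensX, List.mem_cons, List.not_mem_nil, or_false] at hf'
  rcases hf' with rfl | rfl | rfl | rfl | rfl
  · exact ⟨_, actA0⟩
  · exact ⟨_, actA1⟩
  · exact ⟨_, actA2⟩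
  · exact ⟨_, (acts_mat Mg_ok)⟩
  · exact ⟨_, actT⟩


/-- The group. -/
noncomputable abbrev SS : Subgroup Co0 := MulAction.stabilizer Co0 (⟨vecOf (vkL 5), inLattice_sound vk5_ok⟩ : leechLattice)

theorem hd : 552 ≤ 2 ^ 10 := by norm_num

theorem chkA : chkChain 10 1023 552 22 4194303 (lrlvA.map Prod.fst) = true :=
  (chkChainF_eq hd (tw := 22) (tm := 4194303) (w := 10) (m := 1023) (ls := lrlvA.map Prod.fst)).symm.trans chainA_ok

theorem card_SS : Nat.card SS = 495766656000 := card_stab_48 _ (by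
    show sqNorm (vecOf (vkL 5)) = 48
    rw [sqNorm_vecOf]
    decide +kernel)

theorem hExists : ∃ K : Subgroup (Equiv.Perm (Fin 552)), ChainFor 10 1023 552 22 4194303 K (lrlvA.map Prod.fst) ∧ Nonempty (SS ≃* K) := by
  refine rep_auto XX_len hl24 hnd hmem chkA (fun e he => ?_) (by rw [card_SS, ordA])
  have he' : e ∈ [eG0, eG1, eG2, eG3, eG4] := he
  simp only [List.mem_cons, List.not_mem_nil, or_false] at he'
  rcases he' with rfl | rfl | rfl | rfl | rfl
  · exact ⟨_, mem_stab_of_acts (inLattice_sound vk5_ok) actA0 (by decide +kernel), _, actA0, gen0_ok⟩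
  · exact ⟨_, mem_stab_of_acts (inLattice_sound vk5_ok) actA1 (by decide +kernel), _, actA1, gen1_ok⟩
  · exact ⟨_, mem_stab_of_acts (inLattice_sound vk5_ok) actA2 (by decide +kernel), _, actA2, gen2_ok⟩
  · exact ⟨_, mem_stab_of_acts (inLattice_sound vk5_ok) (acts_mat Mg_ok) (by decide +kernel), _, (acts_mat Mg_ok), gen3_ok⟩
  · exact ⟨_, mem_stab_of_acts (inLattice_sound vk5_ok) actT (by decide +kernel), _, actT, gen4_ok⟩

/-- The group as a permutation group. -/
noncomputable def K : Subgroup (Equiv.Perm (Fin 552)) := Classical.choose hExists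

theorem hA : ChainFor 10 1023 552 22 4194303 K (lrlvA.map Prod.fst) := (Classical.choose_spec hExists).1

theorem iso : Nonempty (SS ≃* K) := (Classical.choose_spec hExists).2

theorem card_K : Nat.card K = 495766656000 := by
  rw [← hA.ord]
  exact ordA

theorem out_eq : Nat.card (Out Cfsg.Spor.Co3) = Nat.card (Out K) := by
  obtain ⟨g0, hg⟩ := Cfsg.Agent.Lib.Sporadic.LeechOrbits.co0_transitive_48 Spor.leechV ⟨vecOf (vkL 5), inLattice_sound vk5_ok⟩ sqNorm_V (by
    show sqNorm (vecOf (vkL 5)) = 48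
    rw [sqNorm_vecOf]
    decide +kernel)
  obtain ⟨e⟩ := exists_conj_stab hg
  obtain ⟨e2⟩ := iso
  exact (card_out_congr e).trans (card_out_congr e2)

theorem mP : permOf 10 1023 552 piE ∈ K := hA.mem_of_sift hd (gt_eq vP) siftP
theorem mR : permOf 10 1023 552 rhoE ∈ K := hA.mem_of_sift hd (gt_eq vR) siftR
theorem mY : permOf 10 1023 552 yE ∈ K := hA.mem_of_sift hd (gt_eq vY) siftY

theorem hB : ChainFor 10 1023 552 22 4194303 K (lrlvB.map Prod.fst) := by
  refine ChainFor.of_fast hd chainB_ok ?_ (by rw [ordB, card_K])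
  refine (Subgroup.closure_le _).mpr ?_
  rintro _ ⟨e, he, rfl⟩
  have he' : e ∈ [piE, rhoE, yE] := he
  simp only [List.mem_cons, List.not_mem_nil, or_false] at he'
  rcases he' with rfl | rfl | rfl
  · exact mP
  · exact mR
  · exact mY

instance factP : Fact (Nat.Prime 23) := ⟨by norm_num⟩

theorem hpow : permOf 10 1023 552 piE ^ 23 = 1 := pow_of_check vP hd powP

/-- The outer automorphism group of the group. -/
theorem card_out : Nat.card (Out Cfsg.Spor.Co3) = 1 := by
  rw [out_eq]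
  refine card_out_one_inv (p := 23) (r := 2) (zk := 1) (pe := piE) (re := rhoE) (ye := yE) (ze := rhoE)
    (kills := kills) hA hB hd rfl vP vR vY ?_ hpow ?_ ?_ ?_ vR ?_ ?_ ruA sA ruB sB kF
  · rw [card_K]; norm_num
  · exact ne_one_of_point vP (i := 0) (by norm_num) (by decide +kernel)
  · exact rel_of_check vP vR hd relR
  · exact hexp2_of_check (by norm_num) (by decide)
  · exact (pow_one _).symm
  · exact comm_of_check vY vR hd commYR

end Cfsg.Agent.Lib.Sporadic.Co3Out.Main
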